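import Cfsg.Agent.PQ.Red.Defs
import Cfsg.Agent.H205.RV.OutTwo

/-!
# PQ: the rows `Fa` for the groups whose outer automorphism group is a `2`-group (helper42)
-/

set_option autoImplicit false

namespace Cfsg.Agent.PQ.Alt

open Cfsg Cfsg.Agent

theorem fa_of_outTwo {S : Type} [Group S] (h : H679.OutTwo S) : Fa S := by
  rintro p q - hq - hq2 M - - - α ⟨k, hk⟩ -
  obtain ⟨s, rfl⟩ := H205.RV.inner_of_outTwo h (φ := α) (by rw [hk]; exact (hq.odd_of_ne_two hq2).pow)
  exact ⟨default, s, fun x _ => rfl⟩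

/-- **The alternating, sporadic and Tits rows of `Fa`.** -/
theorem nlFa : NlRows Fa := by
  refine ⟨?_, fun S _ _ _ _ h => fa_of_outTwo (H679.outTwo_sporadic h),
    fun S _ _ _ _ h => fa_of_outTwo (H679.SporOut.tits h)⟩
  rintro S _ _ _ _ ⟨n, hn, ⟨e⟩⟩
  exact fa_of_outTwo (H679.OutTwo.congr e (H205.RV.outTwo_alt' hn))

end Cfsg.Agent.PQ.Alt
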