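import Cfsg.Agent.LV.Red.Defs
import Cfsg.Agent.H614.AltBlk
import Cfsg.Agent.H700.PrinExt
import Cfsg.Agent.Characters.CCBasic
import Cfsg.Agent.S0906

/-!
# PQ / LV, alternating groups: height zero in the principal block for abelian Sylow subgroups (helper42)
-/

set_option autoImplicit false

namespace Cfsg.Agent.PQ.Alt

open Cfsg Cfsg.Agent.LV

universe u

variable {p : ℕ} {M : Ideal AlgInt}

theorem height_principal {G : Type u} [Group G] [Finite G] (p : ℕ) (M : Ideal AlgInt) [M.IsPrime]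
    (χ : IrrCharacter G) :
    blockHeight p (principalBlock M G) (χ : G → ℂ) = (charDegree (χ : G → ℂ)).factorization p := by
  have h0 : (0 : ℕ) ∈ ((fun ψ : IrrCharacter G => (charDegree (ψ : G → ℂ)).factorization p) ''
      (principalBlock M G)) := by
    refine ⟨⟨fun _ => 1, Blocks.Basic.isIrrCharacter_one⟩, Blocks.Basic.sameBlock_refl _, ?_⟩
    show (charDegree (fun _ : G => (1 : ℂ))).factorization p = 0
    rw [Blocks.Basic.charDegree_of_eq (n := 1) (by simp)]
    simp
  show (charDegree (χ : G → ℂ)).factorization p - sInf ((fun ψ : IrrCharacter G =>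
    (charDegree (ψ : G → ℂ)).factorization p) '' (principalBlock M G)) = _
  rw [Nat.sInf_eq_zero.2 (Or.inl h0), Nat.sub_zero]

theorem hz_alt [hp : Fact p.Prime] (hM : IsPModular p M) {n : ℕ} (hn : 2 ≤ n)
    (h : AbS p (alternatingGroup (Fin n))) : HZ0 p M (alternatingGroup (Fin n)) := by
  have : Nontrivial (Fin n) := Fin.nontrivial_iff_two_le.2 hn
  have := hM.2.1.isPrime
  have hB : IsPBlock M (principalBlock M (alternatingGroup (Fin n))) :=
    ⟨⟨fun _ => 1, Blocks.Basic.isIrrCharacter_one⟩, rfl⟩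
  obtain ⟨g, hg⟩ := S0906.result p M hM _ hB
  obtain ⟨D, hD⟩ : ∃ D, IsDefectGroup p M (principalBlock M (alternatingGroup (Fin n))) D :=
    ⟨_, g, hg, default, rfl⟩
  rcases H614.alt_main hM hB hD with ⟨-, φ, hφ⟩ | ⟨h1, -⟩
  · exfalso
    obtain ⟨Q, hQ⟩ := (Blocks.Basic.isPGroup_of_isDefectGroup hD).exists_le_sylow
    have hc : ∀ a b : D, a * b = b * a := fun a b => by
      have h3 := congrArg Subtype.val ((h Q).is_comm.comm ⟨a.1, hQ a.2⟩ ⟨b.1, hQ b.2⟩)
      exact Subtype.ext h3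
    have h4 := Characters.CCBasic.irr_apply_one_of_comm hc φ.2
    rw [Blocks.Basic.irr_one_eq_charDegree φ.2, hφ] at h4
    exact hp.out.one_lt.ne' (by exact_mod_cast h4)
  · intro χ hχ hd
    have h2 := h1 χ hχ
    rw [height_principal] at h2
    have h3 := hp.out.factorization_pos_of_dvd (H614.charDegree_pos χ.2).1.ne' hd
    omega

/-- **The alternating row of LV** (all primes, no extra hypotheses). -/
theorem rowAlt0 (p : ℕ) (hp : p.Prime) : Row0 p fun S _ => IsAlternating S := by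
  have : Fact p.Prime := ⟨hp⟩
  rintro M hM S _ _ - - ⟨n, hn, ⟨e⟩⟩ hS θ hθ hd
  have h1 : AbS p (alternatingGroup (Fin n)) := by
    intro T
    have h2 : IsPGroup p ((T : Subgroup (alternatingGroup (Fin n))).map e.symm.toMonoidHom) := T.2.map _
    obtain ⟨Q, hQ⟩ := h2.exists_le_sylow
    refine ⟨⟨fun a b => Subtype.ext (e.symm.injective ?_)⟩⟩
    have h3 := congrArg Subtype.val ((hS Q).is_comm.comm ⟨e.symm a.1, hQ ⟨a.1, a.2, rfl⟩⟩ ⟨e.symm b.1, hQ ⟨b.1, b.2, rfl⟩⟩)
    show e.symm (a.1 * b.1) = e.symm (b.1 * a.1)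
    rw [map_mul, map_mul]
    exact h3
  refine hz_alt hM (by omega) h1 _ (H700.PrinExt.mapIrr_mem e.symm hθ) ?_
  rw [H700.PrinExt.charDegree_mapIrr]
  exact hd

theorem rowAlt (p : ℕ) (hp : p.Prime) : Row p fun S _ => IsAlternating S := (rowAlt0 p hp).row

end Cfsg.Agent.PQ.Alt
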