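import Cfsg.Agent.H133.PB.AltOdd

/-!
# PQ, alternating groups: a hook added to the trivial partition (helper42)

* `raise0` : the degree after raising the entry `0` of a tuple;
* `fam s u P` : the tuple `(P, 1, …, s, u)`, `deg_fam` its degree, `val_fam` its values at the largest hook;
* `exists_sym` : the character of the symmetric group.
-/

set_option autoImplicit false

namespace Cfsg.Agent.PQ.Alt

open Cfsg Cfsg.Agent Cfsg.Agent.H614 Cfsg.Agent.H133.PB Finset

theorem vdm_cons {k : ℕ} (a : ℕ) (γ : Fin k → ℕ) :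
    ∏ i : Fin (k + 1), ∏ j ∈ Finset.Ioi i, (((Fin.cons a γ : Fin (k + 1) → ℕ) j : ℤ) - (Fin.cons a γ : Fin (k + 1) → ℕ) i) =
      (∏ j, ((γ j : ℤ) - a)) * ∏ i : Fin k, ∏ j ∈ Finset.Ioi i, ((γ j : ℤ) - γ i) := by
  rw [Fin.prod_univ_succ, Fin.prod_Ioi_zero]
  simp only [Fin.prod_Ioi_succ, Fin.cons_succ, Fin.cons_zero]

theorem raise0 {k : ℕ} (γ : Fin k → ℕ) (m P : ℕ) (hs : ∑ j, γ j = m + ∑ i : Fin (k + 1), (i : ℕ)) :
    FM (Multiset.replicate (m + P) 1) (Fin.cons P γ : Fin (k + 1) → ℕ) * (P.factorial * m.factorial * ∏ j, (γ j : ℤ)) =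
      FM (Multiset.replicate m 1) (Fin.cons 0 γ : Fin (k + 1) → ℕ) * ((m + P).factorial * ∏ j, ((γ j : ℤ) - P)) := by
  have h1 := FM_ones_formula (m + P) (Fin.cons P γ : Fin (k + 1) → ℕ) (by
    rw [Fin.sum_univ_succ]
    simp only [Fin.cons_zero, Fin.cons_succ]
    omega)
  have h2 := FM_ones_formula m (Fin.cons 0 γ : Fin (k + 1) → ℕ) (by
    rw [Fin.sum_univ_succ]
    simp only [Fin.cons_zero, Fin.cons_succ]
    omega)
  rw [vdm_cons, Fin.prod_univ_succ] at h1 h2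
  simp only [Fin.cons_zero, Fin.cons_succ, Nat.factorial_zero, Nat.cast_one, one_mul, Nat.cast_zero, sub_zero] at h1 h2
  have hF : ∏ j, (((γ j).factorial : ℕ) : ℤ) ≠ 0 :=
    Finset.prod_ne_zero_iff.2 fun j _ => by exact_mod_cast Nat.factorial_ne_zero _
  apply mul_right_cancel₀ hF
  linear_combination (m.factorial * ∏ j, (γ j : ℤ)) * h1 - ((m + P).factorial * ∏ j, ((γ j : ℤ) - P)) * h2

/-- the tuple `(P, 1, …, s, u)` -/
def fam (s u P : ℕ) : Fin (s + 1 + 1) → ℕ := Fin.cons P (hk s u)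

theorem fam_zero (s u P : ℕ) : fam s u P 0 = P := rfl

theorem fam_succ (s u P : ℕ) (j : Fin (s + 1)) : fam s u P j.succ = hk s u j := rfl

theorem tr_eq (s m : ℕ) : tr (s + 1) m = fam s (m + s + 1) 0 := by
  funext j
  refine Fin.cases ?_ (fun i => ?_) j
  · exact tr_castSucc (s + 1) m 0
  · rw [fam_succ]
    refine Fin.lastCases ?_ (fun k => ?_) i
    · rw [hk_last, Fin.succ_last, tr_last, add_assoc]
    · rw [hk_castSucc, Fin.succ_castSucc, tr_castSucc, Fin.val_succ]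

theorem sum_fam (s m P : ℕ) : ∑ j, fam s (m + s + 1) P j = (m + P) + ∑ i : Fin (s + 1 + 1), (i : ℕ) := by
  have h := tr_sum (s + 1) m
  rw [tr_eq, Fin.sum_univ_succ] at h
  rw [Fin.sum_univ_succ]
  simp only [fam_zero, fam_succ] at h ⊢
  omega

theorem prod_low (s P : ℕ) : ∏ j : Fin s, ((((j : ℕ) + 1 : ℕ) : ℤ) - ((P + 1 : ℕ) : ℤ)) =
    (-1) ^ s * (s.factorial * P.choose s) := by
  rw [Fin.prod_univ_eq_prod_range (fun j => (((j + 1 : ℕ) : ℤ) - ((P + 1 : ℕ) : ℤ))) s]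
  induction s with
  | zero => simp
  | succ s ih =>
    rw [Finset.prod_range_succ, ih]
    by_cases h : s ≤ P
    · have h1 : ((P.choose (s + 1) * (s + 1) : ℕ) : ℤ) = ((P.choose s * (P - s) : ℕ) : ℤ) := by
        rw [Nat.choose_succ_right_eq]
      push_cast [Nat.cast_sub h, Nat.factorial_succ] at h1 ⊢
      linear_combination (-(-1) ^ (s + 1) * (s.factorial : ℤ)) * h1
    · rw [Nat.choose_eq_zero_of_lt (by omega : P < s), Nat.choose_eq_zero_of_lt (by omega : P < s + 1)]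
      simp

theorem prod_one (s : ℕ) : ∏ j : Fin s, ((((j : ℕ) + 1 : ℕ) : ℤ)) = s.factorial := by
  rw [Fin.prod_univ_eq_prod_range (fun j => (((j + 1 : ℕ) : ℤ))) s, ← Nat.cast_prod, Finset.prod_range_add_one_eq_factorial]

/-- **The degree.** -/
theorem deg_fam (s m P : ℕ) :
    FM (Multiset.replicate (m + (P + 1)) 1) (fam s (m + s + 1) (P + 1)) * ((m + s + 1 : ℕ) : ℤ) =
      (-1) ^ s * ((m + (P + 1)).choose (P + 1) * P.choose s * (((m + s + 1 : ℕ) : ℤ) - ((P + 1 : ℕ) : ℤ))) := by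
  have h0 := tr_sum (s + 1) m
  rw [tr_eq, Fin.sum_univ_succ] at h0
  simp only [fam_zero, fam_succ, zero_add] at h0
  have h1 := raise0 (hk s (m + s + 1)) m (P + 1) h0
  have h2 := FM_tr (s + 1) (Multiset.replicate m 1) fun i hi => by rw [Multiset.eq_of_mem_replicate hi]; norm_num
  rw [Multiset.sum_replicate, smul_eq_mul, mul_one, tr_eq] at h2
  change FM _ (fam s (m + s + 1) (P + 1)) * _ = FM _ (fam s (m + s + 1) 0) * _ at h1
  rw [h2, Fin.prod_univ_castSucc, Fin.prod_univ_castSucc, hk_last] at h1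
  simp only [hk_castSucc] at h1
  rw [prod_low, prod_one] at h1
  have h3 : (((m + (P + 1)).choose (P + 1) * m.factorial * (P + 1).factorial : ℕ) : ℤ) = ((m + (P + 1)).factorial : ℕ) := by
    rw [Nat.add_choose_mul_factorial_mul_factorial]
  rw [← h3] at h1
  have hne : (((P + 1).factorial : ℕ) : ℤ) * m.factorial * s.factorial ≠ 0 := by
    exact_mod_cast Nat.mul_ne_zero (Nat.mul_ne_zero (Nat.factorial_ne_zero _) (Nat.factorial_ne_zero _))
      (Nat.factorial_ne_zero _)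
  apply mul_left_cancel₀ hne
  rw [Nat.cast_mul, Nat.cast_mul] at h1
  linear_combination h1

theorem fam_cases {s : ℕ} (j : Fin (s + 1 + 1)) (u P : ℕ) :
    (j = 0 ∧ fam s u P j = P) ∨ (j = Fin.last (s + 1) ∧ fam s u P j = u) ∨
      (0 < (j : ℕ) ∧ (j : ℕ) ≤ s ∧ fam s u P j = j) := by
  refine Fin.cases (.inl ⟨rfl, rfl⟩) (fun i => ?_) j
  right
  refine Fin.lastCases (.inl ⟨Fin.succ_last s, ?_⟩) (fun k => .inr ⟨?_, ?_, ?_⟩) i
  · rw [fam_succ, hk_last]
  · simp
  · have := k.2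
    simp only [Fin.val_succ, Fin.val_castSucc]
    omega
  · rw [fam_succ, hk_castSucc]
    simp

theorem inj_fam {s u P : ℕ} (hu : s < u) (hP : s < P) (h : u ≠ P) : Function.Injective (fam s u P) := by
  intro i j hij
  apply Fin.ext
  rcases fam_cases i u P with ⟨h1, h2⟩ | ⟨h1, h2⟩ | ⟨h1, h2, h3⟩ <;>
    rcases fam_cases j u P with ⟨k1, k2⟩ | ⟨k1, k2⟩ | ⟨k1, k2, k3⟩ <;>
    omega

theorem col_fam {p s m P : ℕ} (hp : p ∣ P) : SameCol p (tr (s + 1) (m + P)) (fam s (m + s + 1) P) := by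
  apply H614.sameCol_of_mod
  intro j
  obtain ⟨c, rfl⟩ := hp
  rw [tr_eq]
  rcases fam_cases j (m + p * c + s + 1) 0 with ⟨h1, h2⟩ | ⟨h1, h2⟩ | ⟨h1, h2, h3⟩ <;>
    rcases fam_cases j (m + s + 1) (p * c) with ⟨k1, k2⟩ | ⟨k1, k2⟩ | ⟨k1, k2, k3⟩
  · rw [h2, k2]; simp
  · rw [h1] at k1; exact absurd (congrArg Fin.val k1) (by simp)
  · rw [h1] at k1; exact absurd k1 (by simp)
  · rw [h1] at k1; exact absurd (congrArg Fin.val k1) (by simp)
  · rw [h2, k2, show m + p * c + s + 1 = m + s + 1 + p * c by ring, Nat.add_mul_mod_self_left]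
  · rw [h1, Fin.val_last] at k2; omega
  · rw [k1] at h1; exact absurd h1 (by simp)
  · rw [k1, Fin.val_last] at h2; omega
  · rw [h3, k3]

theorem fam_swap (s u P : ℕ) : fam s u P ∘ Equiv.swap 0 (Fin.last (s + 1)) = fam s P u := by
  funext j
  rw [Function.comp_apply]
  have e0 : ∀ a b, fam s a b (Fin.last (s + 1)) = a := fun a b => by rw [← Fin.succ_last, fam_succ, hk_last]
  by_cases h0 : j = 0
  · rw [h0, Equiv.swap_apply_left, e0, fam_zero]
  · by_cases h1 : j = Fin.last (s + 1)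
    · rw [h1, Equiv.swap_apply_right, e0, fam_zero]
    · rw [Equiv.swap_apply_of_ne_of_ne h0 h1]
      rcases fam_cases j u P with ⟨k1, -⟩ | ⟨k1, -⟩ | ⟨-, -, k3⟩
      · exact absurd k1 h0
      · exact absurd k1 h1
      · rcases fam_cases j P u with ⟨k1, -⟩ | ⟨k1, -⟩ | ⟨-, -, k4⟩
        · exact absurd k1 h0
        · exact absurd k1 h1
        · rw [k3, k4]

/-- the value at an element with a cycle whose length is the largest entry -/
theorem val_top {s : ℕ} (ν : Multiset ℕ) (hν : ∀ i ∈ ν, 0 < i) {z : ℕ} (hz : ν.sum + s + 1 < z) :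
    FM (z ::ₘ ν) (fam s (ν.sum + s + 1) z) = 1 := by
  rw [FM_cons, Finset.sum_eq_single 0]
  · rw [if_pos (le_of_eq (fam_zero _ _ _).symm)]
    have h : dn (fam s (ν.sum + s + 1) z) 0 z = tr (s + 1) ν.sum := by
      rw [tr_eq]
      funext j
      refine Fin.cases ?_ (fun i => ?_) j
      · rw [dn_self, fam_zero, fam_zero, Nat.sub_self]
      · rw [dn_ne _ _ (Fin.succ_ne_zero i), fam_succ, fam_succ]
    rw [h, FM_tr _ _ hν]
  · intro j _ hj
    rw [if_neg]
    rcases fam_cases j (ν.sum + s + 1) z with ⟨k1, -⟩ | ⟨-, k2⟩ | ⟨-, k2, k3⟩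
    · exact absurd k1 hj
    · omega
    · omega
  · intro h
    exact absurd (Finset.mem_univ _) h

theorem val_fam {s u P : ℕ} (ν : Multiset ℕ) (hν : ∀ i ∈ ν, 0 < i) (h : u ≠ P) (hs : ν.sum + s + 1 = min u P) :
    FM (max u P ::ₘ ν) (fam s u P) ≠ 0 := by
  rcases lt_or_gt_of_ne h with h1 | h1
  · rw [min_eq_left h1.le] at hs
    rw [max_eq_right h1.le, ← hs, val_top ν hν (by omega)]
    exact one_ne_zero
  · rw [min_eq_right h1.le] at hs
    rw [max_eq_left h1.le, ← fam_swap, FM_alt, ← hs, val_top ν hν (by omega), smul_eq_mul, mul_one]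
    intro h2
    have := sg_mul_self (Equiv.swap (0 : Fin (s + 1 + 1)) (Fin.last (s + 1)))
    rw [h2] at this
    simp at this

/-- **The character of the symmetric group** of the partition `(m)` with a hook of length `P`. -/
theorem exists_sym {p : ℕ} [Fact p.Prime] {n m P s : ℕ} (hn : n = m + P) (hp : p ∣ P) (hs : s < P)
    (h : m + s + 1 ≠ P) : ∃ χ : IrrCharacter (Equiv.Perm (Fin n)),
      (∀ M : Ideal AlgInt, IsPModular p M → χ ∈ principalBlock M (Equiv.Perm (Fin n))) ∧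
      charDegree (χ : Equiv.Perm (Fin n) → ℂ) * (m + s + 1) =
        n.choose P * (P - 1).choose s * (((m + s + 1 : ℕ) : ℤ) - P).natAbs ∧
      ∀ (g : Equiv.Perm (Fin n)) (ν : Multiset ℕ), ty g = max (m + s + 1) P ::ₘ ν →
        (χ : Equiv.Perm (Fin n) → ℂ) g ≠ 0 := by
  have hinj : Function.Injective (fam s (m + s + 1) P) := inj_fam (by omega) hs h
  set σ := Tuple.sort (fam s (m + s + 1) P) with hσ
  have hβ : StrictMono (fam s (m + s + 1) P ∘ σ) :=
    (Tuple.monotone_sort _).strictMono_of_injective (hinj.comp σ.injective)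
  have hsum : ∑ i, (fam s (m + s + 1) P ∘ σ) i = Fintype.card (Fin n) + ∑ i : Fin (s + 1 + 1), (i : ℕ) := by
    rw [Fintype.card_fin, hn]
    exact (Equiv.sum_comp σ _).trans (sum_fam s m P)
  have hsg : ∀ x : ℤ, (sg σ * x).natAbs = x.natAbs := fun x => by
    rw [Int.natAbs_mul, Int.units_natAbs, one_mul]
  refine ⟨⟨_, isIrr_ch hβ hsum⟩, fun M hM => ch_mem_principalBlock hM hβ hsum ?_, ?_, ?_⟩
  · rw [Fintype.card_fin, hn]
    exact (col_fam hp).trans (sameCol_comp p _ σ).symm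
  · obtain ⟨P, rfl⟩ : ∃ Q, P = Q + 1 := ⟨P - 1, by omega⟩
    show charDegree (ch (Fin n) _) * _ = _
    rw [charDegree_ch hβ hsum, FM_alt, smul_eq_mul, hsg, Fintype.card_fin, hn]
    have h1 := congrArg Int.natAbs (deg_fam s m P)
    rw [Int.natAbs_mul, Int.natAbs_mul, Int.natAbs_mul, Int.natAbs_mul, Int.natAbs_pow, Int.natAbs_natCast,
      Int.natAbs_natCast, Int.natAbs_natCast, Int.natAbs_neg, Int.natAbs_one, one_pow, one_mul] at h1
    rw [Nat.add_sub_cancel]
    exact h1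
  · intro g ν hg
    show ch (Fin n) _ g ≠ 0
    have h1 := ty_sum g
    have h2 := ty_pos g
    rw [hg] at h1 h2
    rw [Multiset.sum_cons, Fintype.card_fin] at h1
    rw [ch_apply, hg, FM_alt, smul_eq_mul, Int.cast_ne_zero, ← Int.natAbs_ne_zero, hsg, Int.natAbs_ne_zero]
    exact val_fam ν (fun i hi => h2 i (Multiset.mem_cons_of_mem hi)) h (by omega)

/-- From the symmetric group to the alternating group. -/
theorem exists_half {p : ℕ} [Fact p.Prime] {n : ℕ} (hn : 2 ≤ n) (χ : IrrCharacter (Equiv.Perm (Fin n))) :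
    ∃ θ : IrrCharacter (alternatingGroup (Fin n)),
      (∀ M : Ideal AlgInt, IsPModular p M → χ ∈ principalBlock M (Equiv.Perm (Fin n)) →
        θ ∈ principalBlock M (alternatingGroup (Fin n))) ∧
      ((charDegree (χ : Equiv.Perm (Fin n) → ℂ) = charDegree (θ : alternatingGroup (Fin n) → ℂ) ∧
          ∀ x : alternatingGroup (Fin n), (χ : Equiv.Perm (Fin n) → ℂ) x = (θ : alternatingGroup (Fin n) → ℂ) x) ∨
        (charDegree (χ : Equiv.Perm (Fin n) → ℂ) = 2 * charDegree (θ : alternatingGroup (Fin n) → ℂ) ∧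
          ∀ g, g ∉ alternatingGroup (Fin n) → (χ : Equiv.Perm (Fin n) → ℂ) g = 0)) := by
  have : Nontrivial (Fin n) := Fin.nontrivial_iff_two_le.2 hn
  obtain ⟨ψ, hψ⟩ := exists_constituent (alternatingGroup (Fin n)) χ.2
  refine ⟨ψ, fun M hM h => H611.CoverPrincipal.mem_principalBlock_of_over p hM _ χ ψ hψ h, ?_⟩
  obtain ⟨-, h1⟩ := charDegree_pos χ.2
  obtain ⟨-, h2⟩ := charDegree_pos ψ.2
  rcases restrict_two (alternatingGroup (Fin n)) alternatingGroup.index_eq_two χ.2 ψ.2 hψ with h3 | ⟨h3, h4⟩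
  · refine .inl ⟨?_, h3⟩
    have h5 := h3 1
    rw [OneMemClass.coe_one, h1, h2] at h5
    exact_mod_cast h5
  · refine .inr ⟨?_, h4⟩
    rw [h1, h2] at h3
    exact_mod_cast h3

end Cfsg.Agent.PQ.Alt
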