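import Mathlib

/-!
# PQ, alternating groups: the arithmetic of the degrees (helper42)

`Dg n P s d` : `d` is the degree of the partition `(n - P)` with a hook of length `P` (parameter `s`).
-/

set_option autoImplicit false

namespace Cfsg.Agent.PQ.Alt

open Finset

theorem dvd_choose_of_mod {q n k : ℕ} (hq : q.Prime) (h : n % q < k % q) : q ∣ n.choose k := by
  have : Fact q.Prime := ⟨hq⟩
  have h1 := Choose.choose_modEq_choose_mod_mul_choose_div_nat (n := n) (k := k) (p := q)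
  rw [Nat.choose_eq_zero_of_lt h, zero_mul] at h1
  exact (Nat.modEq_zero_iff_dvd).1 h1

theorem not_dvd_choose_pred {p a j : ℕ} (hp : p.Prime) (hj : j < p ^ a) : ¬ p ∣ (p ^ a - 1).choose j := by
  induction j with
  | zero => rw [Nat.choose_zero_right, Nat.dvd_one]; exact hp.one_lt.ne'
  | succ j ih =>
    intro h
    apply ih (by omega)
    have h1 : p ∣ (p ^ a).choose (j + 1) := hp.dvd_choose_pow (by omega) (by omega)
    have h2 : (p ^ a).choose (j + 1) = (p ^ a - 1).choose j + (p ^ a - 1).choose (j + 1) := by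
      rw [← Nat.choose_succ_succ', Nat.sub_add_cancel (by omega)]
    rw [h2] at h1
    exact (Nat.dvd_add_left h).1 h1

theorem not_dvd_choose_top {p a m : ℕ} (hp : p.Prime) (h : m + p ^ a < p ^ (a + 1)) :
    ¬ p ∣ (m + p ^ a).choose (p ^ a) := by
  intro hd
  have h0 := hp.factorization_pos_of_dvd (Nat.choose_pos (Nat.le_add_left _ m)).ne' hd
  rw [Nat.factorization_choose' hp (b := Nat.log p (m + p ^ a) + 1) (Nat.lt_succ_self _), Finset.card_pos] at h0
  obtain ⟨i, hi⟩ := h0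
  rw [Finset.mem_filter] at hi
  obtain ⟨-, hi⟩ := hi
  have hpos : 0 < p ^ i := pow_pos hp.pos i
  by_cases hia : i ≤ a
  · rw [Nat.mod_eq_zero_of_dvd (pow_dvd_pow p hia), zero_add] at hi
    exact absurd (Nat.mod_lt m hpos) (by omega)
  · have h1 : p ^ (a + 1) ≤ p ^ i := Nat.pow_le_pow_right hp.pos (by omega)
    have h2 := Nat.mod_le (p ^ a) (p ^ i)
    have h3 := Nat.mod_le m (p ^ i)
    omega

theorem not_dvd_of_eq {p a u d C : ℕ} (hp : p.Prime) (hu0 : 0 < u) (hu : u < p ^ (a + 1)) (hne : u ≠ p ^ a)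
    (hC : ¬ p ∣ C) (h : d * u = C * ((u : ℤ) - (p ^ a : ℕ)).natAbs) : ¬ p ∣ d := by
  intro hd
  obtain ⟨b, v, hv, rfl⟩ := Nat.exists_eq_pow_mul_and_not_dvd hu0.ne' p hp.ne_one
  have hv0 : 0 < v := Nat.pos_of_ne_zero fun h0 => hv (h0 ▸ dvd_zero p)
  have h1 : p ^ (b + 1) ∣ C * (((p ^ b * v : ℕ) : ℤ) - (p ^ a : ℕ)).natAbs := by
    rw [← h, pow_succ, mul_comm (p ^ b) p, ← mul_assoc, mul_comm (d * p ^ b)]
    exact Dvd.dvd.mul_left (Nat.mul_dvd_mul_right hd _) v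
  have h2 := (Nat.Coprime.pow_left (b + 1) ((Nat.Prime.coprime_iff_not_dvd hp).2 hC)).dvd_of_dvd_mul_left h1
  have h3 : ((p ^ (b + 1) : ℕ) : ℤ) ∣ ((p ^ b * v : ℕ) : ℤ) - (p ^ a : ℕ) := Int.natCast_dvd.2 h2
  have hb : b ≤ a := by
    by_contra hb
    have h4 : p ^ (a + 1) ≤ p ^ b := Nat.pow_le_pow_right hp.pos (by omega)
    have h5 : p ^ b ≤ p ^ b * v := Nat.le_mul_of_pos_right _ hv0
    omega
  have hpos : 0 < p ^ b := pow_pos hp.pos b
  rcases hb.lt_or_eq with hb | rfl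
  · have h4 : ((p ^ (b + 1) : ℕ) : ℤ) ∣ (p ^ a : ℕ) := Int.natCast_dvd_natCast.2 (pow_dvd_pow p hb)
    have h5 := h3.add h4
    rw [sub_add_cancel, Int.natCast_dvd_natCast, pow_succ] at h5
    exact hv (Nat.dvd_of_mul_dvd_mul_left hpos h5)
  · have h4 : v < p := by
      rw [pow_succ] at hu
      exact Nat.lt_of_mul_lt_mul_left hu
    have h5 : v ≠ 1 := fun h1 => hne (by rw [h1, mul_one])
    obtain ⟨w, rfl⟩ : ∃ w, v = w + 1 := ⟨v - 1, by omega⟩
    have h6 : ((p ^ b * (w + 1) : ℕ) : ℤ) - (p ^ b : ℕ) = ((p ^ b * w : ℕ) : ℤ) := by push_cast; ring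
    rw [h6, Int.natCast_dvd_natCast, pow_succ] at h3
    have h7 := Nat.le_of_dvd (by omega) (Nat.dvd_of_mul_dvd_mul_left hpos h3)
    omega

/-- `d` is the degree of the partition `(m)` with a hook of length `P` -/
def Dg (m P s d : ℕ) : Prop :=
  d * (m + s + 1) = (m + P).choose P * (P - 1).choose s * (((m + s + 1 : ℕ) : ℤ) - P).natAbs

theorem Dg.not_dvd {p a m s d : ℕ} (hp : p.Prime) (h : Dg m (p ^ a) s d) (hm : m + p ^ a < p ^ (a + 1))
    (hs : s < p ^ a) (hne : m + s + 1 ≠ p ^ a) : ¬ p ∣ d :=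
  not_dvd_of_eq hp (by omega) (by omega) hne
    (fun h1 => (hp.dvd_mul.1 h1).elim (not_dvd_choose_top hp hm) (not_dvd_choose_pred hp hs)) h

theorem Dg.dvd_of {k m P s d : ℕ} (h : Dg m P s d) (hc : Nat.Coprime k (m + s + 1))
    (hd : k ∣ (m + P).choose P ∨ k ∣ (P - 1).choose s ∨ k ∣ (((m + s + 1 : ℕ) : ℤ) - P).natAbs) : k ∣ d := by
  apply hc.dvd_of_dvd_mul_right
  rw [show d * (m + s + 1) = _ from h]
  rcases hd with h1 | h1 | h1
  · exact (h1.mul_right _).mul_right _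
  · exact (h1.mul_left _).mul_right _
  · exact h1.mul_left _

theorem Dg.dvd_of_modEq {k m P s d : ℕ} (h : Dg m P s d) (hc : Nat.Coprime k P) (he : m + s + 1 ≡ P [MOD k]) :
    k ∣ d := by
  refine h.dvd_of ?_ (.inr (.inr ?_))
  · rw [Nat.Coprime, Nat.gcd_rec, he, ← Nat.gcd_rec]
    exact hc
  · exact Int.natCast_dvd.1 he.symm.dvd

theorem exists_res {k : ℕ} (hk : 0 < k) (m P : ℕ) : ∃ s, s < k ∧ m + s + 1 ≡ P [MOD k] := by
  obtain ⟨k, rfl⟩ : ∃ j, k = j + 1 := ⟨k - 1, by omega⟩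
  refine ⟨(P + k * (m + 1)) % (k + 1), Nat.mod_lt _ hk, ?_⟩
  have h1 : m + (P + k * (m + 1)) % (k + 1) + 1 ≡ m + (P + k * (m + 1)) + 1 [MOD k + 1] :=
    ((Nat.mod_modEq _ _).add_left m).add_right 1
  refine h1.trans ?_
  rw [show m + (P + k * (m + 1)) + 1 = P + (k + 1) * (m + 1) by ring]
  exact Nat.add_mul_mod_self_left _ _ _

/-- a parameter `s` with degrees divisible by `k` -/
def Ex (k m P : ℕ) : Prop := ∃ s, s < P ∧ m + s + 1 ≠ P ∧ ∀ d, Dg m P s d → k ∣ d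

theorem ex_or {k m P : ℕ} (hk : 0 < k) (hkP : k ≤ P) (hc : Nat.Coprime k P) :
    Ex k m P ∨ (m < k ∧ P ≤ m + k ∧ m < P) := by
  obtain ⟨s, hs, he⟩ := exists_res hk m P
  by_cases h1 : m + s + 1 = P
  · by_cases h2 : s + k < P
    · refine .inl ⟨s + k, h2, by omega, fun d hd => hd.dvd_of_modEq hc ?_⟩
      rw [show m + (s + k) + 1 = m + s + 1 + k by ring]
      exact (Nat.add_modEq_right).trans he
    · exact .inr ⟨by omega, by omega, by omega⟩
  · exact .inl ⟨s, by omega, h1, fun d hd => hd.dvd_of_modEq hc he⟩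

theorem ex_odd {p q a m : ℕ} (hp : p.Prime) (hq : q.Prime) (hq2 : q ≠ 2) (hqp : q < p) (ha : 0 < a) :
    Ex q m (p ^ a) := by
  have hpa : p ≤ p ^ a := Nat.le_self_pow ha.ne' p
  have hc : Nat.Coprime q (p ^ a) := Nat.Coprime.pow_right a ((Nat.coprime_primes hq hp).2 hqp.ne)
  refine (ex_or hq.pos (by omega) hc).elim id fun ⟨h1, h2, _⟩ => ?_
  obtain rfl : a = 1 := by
    by_contra h
    have h3 : p ^ 2 ≤ p ^ a := Nat.pow_le_pow_right hp.pos (by omega)
    have h4 : 2 * p ≤ p ^ 2 := by rw [sq]; exact Nat.mul_le_mul_right p hp.two_le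
    omega
  rw [pow_one] at h2 ⊢
  have hq3 : 3 ≤ q := by have := hq.two_le; omega
  have key : ∀ s, p - q ≤ s → s < q → m + s + 1 ≠ p → m + s + 1 ≠ q → Ex q m p := by
    intro s h3 h4 h5 h6
    refine ⟨s, by omega, h5, fun d hd => hd.dvd_of ?_ (.inr (.inl ?_))⟩
    · rw [hq.coprime_iff_not_dvd]
      rintro ⟨c, hc⟩
      rcases c with _ | _ | c
      · omega
      · omega
      · have : q * (c + 1 + 1) = q * c + 2 * q := by ring
        omega
    · exact hq.dvd_choose h4 (by omega) (by omega)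
  by_cases h3 : p + 3 ≤ 2 * q
  · by_cases h4 : m + (p - q) + 1 ≠ p ∧ m + (p - q) + 1 ≠ q
    · exact key _ le_rfl (by omega) h4.1 h4.2
    · by_cases h5 : m + (p - q + 1) + 1 ≠ p ∧ m + (p - q + 1) + 1 ≠ q
      · exact key _ (by omega) (by omega) h5.1 h5.2
      · exact key (p - q + 2) (by omega) (by omega) (by omega) (by omega)
  · have h4 : p % 2 = 1 := hp.eq_two_or_odd.resolve_left (by omega)
    obtain ⟨r, rfl⟩ : ∃ r, q = r + 2 := ⟨q - 2, by omega⟩
    obtain rfl : p = 2 * r + 3 := by omega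
    obtain rfl : m = r + 1 := by omega
    refine ⟨1, by omega, by omega, fun d hd => hd.dvd_of ?_ (.inl (dvd_choose_of_mod hq ?_))⟩
    · rw [show r + 1 + 1 + 1 = 1 + (r + 2) by ring, Nat.coprime_add_self_right]
      exact Nat.coprime_one_right _
    · rw [show r + 1 + (2 * r + 3) = r + (r + 2) * 2 by ring, show 2 * r + 3 = r + 1 + (r + 2) * 1 by ring,
        Nat.add_mul_mod_self_left, Nat.add_mul_mod_self_left, Nat.mod_eq_of_lt (by omega), Nat.mod_eq_of_lt (by omega)]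
      omega

theorem ex_num {k m P : ℕ} (s c : ℕ) (hs : s < P) (hne : m + s + 1 ≠ P)
    (h : k * c * (m + s + 1) = (m + P).choose P * (P - 1).choose s * (((m + s + 1 : ℕ) : ℤ) - P).natAbs) :
    Ex k m P := by
  refine ⟨s, hs, hne, fun d hd => ⟨c, ?_⟩⟩
  exact Nat.eq_of_mul_eq_mul_right (Nat.succ_pos _) ((show d * (m + s + 1) = _ from hd).trans h.symm)

theorem ex_four {p a m : ℕ} (hp : p.Prime) (hp2 : p ≠ 2) (ha : 0 < a) (h5 : 5 ≤ m + p ^ a)
    (hm : m + p ^ a < p ^ (a + 1)) : Ex 4 m (p ^ a) ∨ (p ^ a = 5 ∧ m = 2) := by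
  have hc : Nat.Coprime 4 (p ^ a) :=
    Nat.Coprime.pow_right a (Nat.Coprime.pow_left 2 ((Nat.coprime_primes Nat.prime_two hp).2 (Ne.symm hp2)))
  have hodd : p ^ a % 2 = 1 := Nat.odd_iff.1 (hp.odd_of_ne_two hp2).pow
  have hpa : p ≤ p ^ a := Nat.le_self_pow ha.ne' p
  have h3 : 3 ≤ p := by have := hp.two_le; omega
  by_cases h4 : 4 ≤ p ^ a
  · refine (ex_or (by norm_num) h4 hc).elim .inl fun ⟨h1, h2, _⟩ => ?_
    have h6 : p ^ a = 5 ∨ p ^ a = 7 := by omega
    rcases h6 with h6 | h6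
    · rw [h6]
      have h7 : m = 1 ∨ m = 2 ∨ m = 3 := by omega
      rcases h7 with rfl | rfl | rfl
      · exact .inl (ex_num 1 4 (by norm_num) (by norm_num) (by decide))
      · exact .inr ⟨rfl, rfl⟩
      · exact .inl (ex_num 2 14 (by norm_num) (by norm_num) (by decide))
    · rw [h6]
      obtain rfl : m = 3 := by omega
      exact .inl (ex_num 1 72 (by norm_num) (by norm_num) (by decide))
  · have h6 : p ^ a = 3 := by omega
    rw [pow_succ, h6] at hm
    rw [h6] at h5 ⊢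
    have h7 : m = 2 ∨ m = 3 ∨ m = 4 ∨ m = 5 := by omega
    rcases h7 with rfl | rfl | rfl | rfl
    · exact .inl (ex_num 2 1 (by norm_num) (by norm_num) (by decide))
    · exact .inl (ex_num 1 4 (by norm_num) (by norm_num) (by decide))
    · exact .inl (ex_num 2 5 (by norm_num) (by norm_num) (by decide))
    · exact .inl (ex_num 0 7 (by norm_num) (by norm_num) (by decide))

end Cfsg.Agent.PQ.Alt
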