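import Cfsg.Agent.PQ.Alt.Fam
import Cfsg.Agent.PQ.Alt.Num
import Cfsg.Agent.PQ.Red.Defs
import Cfsg.Agent.H700.PrinExt

/-!
# PQ, alternating groups: the rows (helper42)

* `exists_pq` : for primes `q < p ≤ n` a member of the principal `p`-block of `A_n` of degree prime to `p` and
  divisible by `q`;
* `not_com` : the Sylow subgroups do not commute;
* `cv87`, `cv27`, `fw`, `mu` : the rows.
-/

set_option autoImplicit false

namespace Cfsg.Agent.PQ.Alt

open Cfsg Cfsg.Agent Cfsg.Agent.H614 Finset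

theorem exists_type {n : ℕ} (c : Multiset ℕ) (hc : ∀ i ∈ c, 2 ≤ i) (hs : c.sum ≤ n) :
    ∃ g : Equiv.Perm (Fin n), g.cycleType = c ∧ ty g = c + Multiset.replicate (n - c.sum) 1 ∧
      (g ∈ alternatingGroup (Fin n) ↔ Even (c.sum + Multiset.card c)) := by
  obtain ⟨g, hg⟩ := (Equiv.Perm.exists_with_cycleType_iff (α := Fin n) (m := c)).2
    ⟨by rw [Fintype.card_fin]; exact hs, hc⟩
  refine ⟨g, hg, by rw [ty_eq, hg, Fintype.card_fin], ?_⟩
  rw [Equiv.Perm.mem_alternatingGroup, Equiv.Perm.sign_of_cycleType, hg]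
  exact neg_one_pow_eq_one_iff_even (by decide)

/-- **A member of the principal `p`-block of degree prime to `p` and divisible by `q`.** -/
theorem exists_pq {n p q : ℕ} (hp : p.Prime) (hq : q.Prime) (hqp : q < p) (hpn : p ≤ n) (hn : 5 ≤ n) :
    ∃ θ : IrrCharacter (alternatingGroup (Fin n)),
      (∀ M : Ideal AlgInt, IsPModular p M → θ ∈ principalBlock M (alternatingGroup (Fin n))) ∧
      ¬ p ∣ charDegree (θ : alternatingGroup (Fin n) → ℂ) ∧ q ∣ charDegree (θ : alternatingGroup (Fin n) → ℂ) := by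
  have : Fact p.Prime := ⟨hp⟩
  obtain ⟨a, ha, h1, h2⟩ : ∃ a, 0 < a ∧ p ^ a ≤ n ∧ n < p ^ (a + 1) :=
    ⟨Nat.log p n, Nat.log_pos hp.one_lt hpn, Nat.pow_log_le_self p (by omega), Nat.lt_pow_succ_log_self hp.one_lt n⟩
  obtain ⟨m, rfl⟩ : ∃ m, n = m + p ^ a := ⟨n - p ^ a, by omega⟩
  have hp2 : p ≠ 2 := by have := hq.two_le; omega
  have key : ∀ s, s < p ^ a → m + s + 1 ≠ p ^ a →
      (∀ d, Dg m (p ^ a) s d → q ∣ d ∧ (q = 2 → 4 ∣ d ∨ ∃ (g : Equiv.Perm (Fin (m + p ^ a))) (ν : Multiset ℕ),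
        ty g = max (m + s + 1) (p ^ a) ::ₘ ν ∧ g ∉ alternatingGroup (Fin (m + p ^ a)))) →
      ∃ θ : IrrCharacter (alternatingGroup (Fin (m + p ^ a))),
      (∀ M : Ideal AlgInt, IsPModular p M → θ ∈ principalBlock M (alternatingGroup (Fin (m + p ^ a)))) ∧
      ¬ p ∣ charDegree (θ : alternatingGroup (Fin (m + p ^ a)) → ℂ) ∧
        q ∣ charDegree (θ : alternatingGroup (Fin (m + p ^ a)) → ℂ) := by
    intro s hs hne hd
    obtain ⟨χ, hχ, hdeg, hval⟩ := exists_sym (p := p) rfl (dvd_pow_self p ha.ne') hs hne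
    have h3 : Dg m (p ^ a) s (charDegree (χ : Equiv.Perm (Fin (m + p ^ a)) → ℂ)) := hdeg
    have h4 := h3.not_dvd hp h2 hs hne
    obtain ⟨h5, h6⟩ := hd _ h3
    obtain ⟨θ, hθ, h7 | h7⟩ := exists_half (p := p) (by omega) χ
    · refine ⟨θ, fun M hM => hθ M hM (hχ M hM), ?_, ?_⟩
      · rw [← h7.1]; exact h4
      · rw [← h7.1]; exact h5
    · refine ⟨θ, fun M hM => hθ M hM (hχ M hM), fun h8 => h4 (h7.1 ▸ h8.mul_left 2), ?_⟩
      rw [h7.1] at h5 h6
      by_cases hq2 : q = 2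
      · rcases h6 hq2 with h8 | ⟨g, ν, h8, h9⟩
        · rw [hq2]
          omega
        · exact absurd (h7.2 g h9) (hval g ν h8)
      · exact (hq.dvd_mul.1 h5).resolve_left fun h8 => hq2 ((Nat.prime_dvd_prime_iff_eq hq Nat.prime_two).1 h8)
  by_cases hq2 : q = 2
  · rcases ex_four hp hp2 ha hn h2 with ⟨s, hs, hne, hd⟩ | ⟨h3, h4⟩
    · exact key s hs hne fun d h => ⟨hq2 ▸ (by decide : 2 ∣ 4).trans (hd d h), fun _ => .inl (hd d h)⟩
    · refine key 0 (by omega) (by omega) fun d h => ⟨?_, fun _ => .inr ?_⟩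
      · have h5 : d * (m + 0 + 1) = _ := h
        rw [h3, h4] at h5
        have h6 : (2 + 5).choose 5 * (5 - 1).choose 0 * (((2 + 0 + 1 : ℕ) : ℤ) - (5 : ℕ)).natAbs = 42 := by decide
        rw [hq2]
        omega
      · obtain ⟨g, -, h5, h6⟩ := exists_type (n := m + p ^ a) {5, 2} (by decide) (by rw [h3, h4]; decide)
        refine ⟨g, {2}, ?_, fun h7 => absurd (h6.1 h7) (by decide)⟩
        rw [h5, h3, h4]
        decide
  · obtain ⟨s, hs, hne, hd⟩ := ex_odd (m := m) hp hq hq2 hqp ha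
    exact key s hs hne fun d h => ⟨hd d h, fun h1 => absurd h1 hq2⟩

theorem fix_of_commute {α : Type*} [Fintype α] [DecidableEq α] {c y : Equiv.Perm α} (hc : c.IsCycle)
    (hcy : y * c = c * y) {N : ℕ} (hN : y ^ N = 1) (hco : Nat.Coprime (orderOf c) N) {a : α} (ha : c a ≠ a) :
    y a = a := by
  have hcomm : Commute y c := hcy
  have h1 : c (y a) ≠ y a := by
    intro h
    apply ha
    apply y.injective
    rw [← Equiv.Perm.mul_apply, hcy, Equiv.Perm.mul_apply, h]
  obtain ⟨k, hk⟩ := hc.exists_pow_eq ha h1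
  have h2 : ∀ j : ℕ, (y ^ j) a = (c ^ (k * j)) a := by
    intro j
    induction j with
    | zero => simp
    | succ j ih =>
      rw [pow_succ', Equiv.Perm.mul_apply, ih, ← Equiv.Perm.mul_apply, (hcomm.pow_right (k * j)).eq,
        Equiv.Perm.mul_apply, ← hk, ← Equiv.Perm.mul_apply, ← pow_add, mul_add, mul_one]
  have h3 := h2 N
  rw [hN] at h3
  have h4 : c ^ (k * N) = 1 := (hc.pow_eq_one_iff' ha).2 h3.symm
  have h5 : c ^ k = 1 := orderOf_dvd_iff_pow_eq_one.1 (hco.dvd_of_dvd_mul_right (orderOf_dvd_iff_pow_eq_one.2 h4))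
  rw [← hk, h5, Equiv.Perm.one_apply]

theorem not_com_lt {n p q : ℕ} (hp : p.Prime) (hq : q.Prime) (hqp : q < p) (hpn : p ≤ n) (hn : 5 ≤ n) :
    ¬ Com p q (alternatingGroup (Fin n)) := by
  have : Fact p.Prime := ⟨hp⟩
  have : Fact q.Prime := ⟨hq⟩
  rintro ⟨P, Q, hPQ⟩
  have hp2 : p % 2 = 1 := hp.eq_two_or_odd.resolve_left (by have := hq.two_le; omega)
  obtain ⟨c, hc, -, hcA⟩ := exists_type (n := n) {p} (by simpa using hp.two_le) (by simpa using hpn)
  have hcA' : c ∈ alternatingGroup (Fin n) := hcA.2 (by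
    rw [Multiset.sum_singleton, Multiset.card_singleton, Nat.even_iff]; omega)
  have hcyc : c.IsCycle := Equiv.Perm.card_cycleType_eq_one.1 (by rw [hc, Multiset.card_singleton])
  have hord : orderOf c = p := by rw [← Equiv.Perm.lcm_cycleType, hc, Multiset.lcm_singleton, normalize_eq]
  have hsupp : c.support.card = p := by rw [← Equiv.Perm.sum_cycleType, hc, Multiset.sum_singleton]
  set x : alternatingGroup (Fin n) := ⟨c, hcA'⟩ with hx
  have hxo : orderOf x = p := by rw [← Subgroup.orderOf_coe, hord]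
  have hz : IsPGroup p (Subgroup.zpowers x) := IsPGroup.of_card (n := 1) (by rw [Nat.card_zpowers, hxo, pow_one])
  obtain ⟨P', hP'⟩ := hz.exists_le_sylow
  obtain ⟨g, rfl⟩ := MulAction.exists_smul_eq (alternatingGroup (Fin n)) P P'
  have hxP : g⁻¹ * x * g ∈ (P : Subgroup (alternatingGroup (Fin n))) := by
    have h1 := hP' (Subgroup.mem_zpowers x)
    rw [Sylow.coe_subgroup_smul, Subgroup.mem_pointwise_smul_iff_inv_smul_mem] at h1
    simpa [MulAut.smul_def] using h1
  have hcom : ∀ y ∈ ((g • Q : Sylow q (alternatingGroup (Fin n))) : Subgroup (alternatingGroup (Fin n))),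
      y * x = x * y := by
    intro y hy
    rw [Sylow.coe_subgroup_smul, Subgroup.mem_pointwise_smul_iff_inv_smul_mem] at hy
    have h1 : g⁻¹ * y * g ∈ (Q : Subgroup (alternatingGroup (Fin n))) := by simpa [MulAut.smul_def] using hy
    have h2 := hPQ _ hxP _ h1
    have h3 : y * x = g * ((g⁻¹ * y * g) * (g⁻¹ * x * g)) * g⁻¹ := by group
    rw [h3, ← h2]
    group
  obtain ⟨s, hs, hsq⟩ := Finset.exists_subset_card_eq (s := c.support) (n := q) (by omega)
  have hle : ((g • Q : Sylow q (alternatingGroup (Fin n))) : Subgroup (alternatingGroup (Fin n))) ≤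
      fixingSubgroup (alternatingGroup (Fin n)) (s : Set (Fin n)) := by
    intro y hy
    rw [mem_fixingSubgroup_iff]
    intro a ha
    obtain ⟨k, hk⟩ := (g • Q).2 ⟨y, hy⟩
    have h1 : (y : Equiv.Perm (Fin n)) ^ q ^ k = 1 := congrArg Subtype.val (congrArg Subtype.val hk)
    refine fix_of_commute hcyc (congrArg Subtype.val (hcom y hy)) h1 ?_ (Equiv.Perm.mem_support.1 (hs ha))
    rw [hord]
    exact Nat.Coprime.pow_right k ((Nat.coprime_primes hp hq).2 hqp.ne')
  have hq2 : q ≤ Nat.card (Fin n) - 2 := by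
    rw [Nat.card_eq_fintype_card, Fintype.card_fin]
    rcases hq.eq_two_or_odd with h | h <;> omega
  have htr := alternatingGroup.isMultiplyPretransitive (Fin n)
  have htr' : MulAction.IsMultiplyPretransitive (alternatingGroup (Fin n)) (Fin n) (s : Set (Fin n)).ncard := by
    rw [Set.ncard_coe_finset, hsq]
    exact MulAction.isMultiplyPretransitive_of_le hq2 (Nat.sub_le _ _)
  have h1 := MulAction.IsMultiplyPretransitive.index_of_fixingSubgroup_eq _ htr'
  rw [Set.ncard_coe_finset, hsq] at h1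
  apply (g • Q).not_dvd_index
  refine Dvd.dvd.trans ?_ (Subgroup.index_dvd_of_le hle)
  rw [h1]
  exact (Nat.dvd_factorial hq.pos le_rfl).mul_left _

theorem le_of_dvd_card {n p : ℕ} (hp : p.Prime) (h : p ∣ Nat.card (alternatingGroup (Fin n))) : p ≤ n := by
  have h1 := h.trans (Subgroup.card_subgroup_dvd_card _)
  rw [Nat.card_perm, Nat.card_eq_fintype_card, Fintype.card_fin] at h1
  exact hp.dvd_factorial.1 h1

theorem com_of_equiv {p q : ℕ} [Fact p.Prime] [Fact q.Prime] {G H : Type*} [Group G] [Finite G] [Group H]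
    (e : G ≃* H) (h : Com p q G) : Com p q H := by
  have : Finite H := Finite.of_equiv _ e.toEquiv
  obtain ⟨P, Q, h⟩ := h
  refine ⟨P.mapSurjective (f := e.toMonoidHom) e.surjective, Q.mapSurjective (f := e.toMonoidHom) e.surjective, ?_⟩
  rintro _ ⟨x, hx, rfl⟩ _ ⟨y, hy, rfl⟩
  rw [← map_mul, h x hx y hy, map_mul]

/-- **No commuting Sylow subgroups in the alternating groups.** -/
theorem not_com {S : Type*} [Group S] [Finite S] (hS : IsAlternating S) {p q : ℕ} (hp : p.Prime) (hq : q.Prime)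
    (hpq : p ≠ q) (h1 : p ∣ Nat.card S) (h2 : q ∣ Nat.card S) : ¬ Com p q S := by
  have : Fact p.Prime := ⟨hp⟩
  have : Fact q.Prime := ⟨hq⟩
  obtain ⟨n, hn, ⟨e⟩⟩ := hS
  rw [Nat.card_congr e.toEquiv] at h1 h2
  intro h
  have h3 := com_of_equiv e h
  rcases lt_or_gt_of_ne hpq with h4 | h4
  · exact not_com_lt hq hp h4 (le_of_dvd_card hq h2) hn h3.symm
  · exact not_com_lt hp hq h4 (le_of_dvd_card hp h1) hn h3

theorem not_pair {S : Type*} [Group S] [Finite S] (hS : IsAlternating S) {p q : ℕ} : ¬ Pair p q S :=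
  fun h => not_com hS h.pp h.pq h.ne h.dp h.dq h.com

theorem not_hz1 {S : Type*} [Group S] [Finite S] (hS : IsAlternating S) {p q : ℕ} (hp : p.Prime) (hq : q.Prime)
    (hqp : q < p) (h1 : p ∣ Nat.card S) {M : Ideal AlgInt} (hM : IsPModular p M) : ¬ HZ1 p q M S := by
  obtain ⟨n, hn, ⟨e⟩⟩ := hS
  rw [Nat.card_congr e.toEquiv] at h1
  obtain ⟨θ, h2, h3, h4⟩ := exists_pq hp hq hqp (le_of_dvd_card hp h1) hn
  intro h
  refine h _ (H700.PrinExt.mapIrr_mem e (h2 M hM)) ?_ ?_
  · rw [H700.PrinExt.charDegree_mapIrr]; exact h3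
  · rw [H700.PrinExt.charDegree_mapIrr]; exact h4

/-- **The alternating row of `Cv87`.** -/
theorem cv87 : All (fun S _ => IsAlternating S) Cv87 := by
  intro S _ _ _ _ hS p q hp hq hpq Mp Mq hMp hMq h1 h2 h3 h4
  rcases lt_or_gt_of_ne hpq with h5 | h5
  · exact absurd h4 (not_hz1 hS hq hp h5 h2 hMq)
  · exact absurd h3 (not_hz1 hS hp hq h5 h1 hMp)

/-- **The alternating row of `Cv27`.** -/
theorem cv27 : All (fun S _ => IsAlternating S) Cv27 := cv87.imp fun _ _ h => h.cv27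

/-- **The alternating row of `Fw`.** -/
theorem fw : All (fun S _ => IsAlternating S) Fw :=
  fun _ _ _ _ _ hS _ _ _ _ h => absurd h (not_pair hS)

/-- **The alternating row of `Mu`.** -/
theorem mu : All (fun S _ => IsAlternating S) Mu :=
  fun _ _ _ _ _ hS _ _ h => absurd h (not_pair hS)

end Cfsg.Agent.PQ.Alt
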